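import Cfsg.Agent.Lib.G2SL3.Torus
import Cfsg.Agent.Lib.ChevRegular.Basic

/-!
The Singer cycle of `SL₃(q)` inside G2(q): it is its own centralizer.
-/

set_option autoImplicit false

namespace Cfsg.Agent.Lib.G2SL3

open Cfsg.Lie Cfsg.Agent.Lib.Chev Module

/-- The exponents of the twelve roots at the torus element `diag (ζ, ζ ^ q, ζ ^ (q ^ 2))`. -/
def singerExp (q : ℤ) (r : ℕ) : ℤ := (rootExp r).1 + q * (rootExp r).2

theorem singerExp_not_dvd (q : ℕ) (hq : 3 ≤ q) :
    (∀ r : Fin 12, ¬ ((q ^ 2 + q + 1 : ℕ) : ℤ) ∣ singerExp q r.val) ∧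
    (∀ r r' : Fin 12, ((q ^ 2 + q + 1 : ℕ) : ℤ) ∣ singerExp q r.val - singerExp q r'.val → r = r') := by
  by_cases h3 : q = 3
  · subst h3; decide +kernel
  by_cases h4 : q = 4
  · subst h4; decide +kernel
  have hq' : (5 : ℤ) ≤ q := by exact_mod_cast (show 5 ≤ q by omega)
  have hr : ∀ r : Fin 12, |(rootExp r.val).1| ≤ 2 ∧ |(rootExp r.val).2| ≤ 2 ∧ rootExp r.val ≠ (0, 0) := by
    decide +kernel
  have hinj : ∀ r r' : Fin 12, rootExp r.val = rootExp r'.val → r = r' := by decide +kernel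
  have key : ∀ u w : ℤ, |u| ≤ 4 → |w| ≤ 4 → ((q ^ 2 + q + 1 : ℕ) : ℤ) ∣ u + (q : ℤ) * w → u = 0 ∧ w = 0 := by
    intro u w hu hw hd
    have he : u + (q : ℤ) * w = 0 := by
      refine Int.eq_zero_of_abs_lt_dvd hd ?_
      push_cast
      calc |u + (q : ℤ) * w| ≤ |u| + |(q : ℤ) * w| := abs_add_le _ _
        _ ≤ 4 + q * 4 := by
          rw [abs_mul, Nat.abs_cast]
          exact add_le_add hu (mul_le_mul_of_nonneg_left hw (by positivity))
        _ < _ := by nlinarith
    have hu0 : u = 0 := Int.eq_zero_of_abs_lt_dvd ⟨-w, by linarith⟩ (by omega : |u| < (q : ℤ))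
    subst hu0
    refine ⟨rfl, ?_⟩
    rw [zero_add] at he
    exact (mul_eq_zero.1 he).resolve_left (by omega)
  constructor
  · intro r hd
    obtain ⟨e1, e2⟩ := key _ _ ((hr r).1.trans (by norm_num)) ((hr r).2.1.trans (by norm_num)) hd
    exact (hr r).2.2 (Prod.ext e1 e2)
  · intro r r' hd
    rw [singerExp, singerExp] at hd
    obtain ⟨e1, e2⟩ := key ((rootExp r.val).1 - (rootExp r'.val).1) ((rootExp r.val).2 - (rootExp r'.val).2)
      ((abs_sub _ _).trans (by linarith [(hr r).1, (hr r').1]))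
      ((abs_sub _ _).trans (by linarith [(hr r).2.1, (hr r').2.1]))
      (by rw [mul_sub]; convert hd using 1; ring)
    exact hinj r r' (Prod.ext (sub_eq_zero.1 e1) (sub_eq_zero.1 e2))

set_option maxHeartbeats 1600000 in
/-- The data of the Singer cycle over a field `K` of degree three over `F`. -/
theorem exists_selfCentralizing {F : Type*} [Field F] {K : Type*} [Field K] [Algebra F K] [Finite K]
    (p : ℕ) [Fact p.Prime] [CharP F p] (hK : finrank F K = 3) (q : ℕ) (hF : Nat.card F = q) (hq : 3 ≤ q) :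
    ∃ H : Subgroup ↥(chevG2.group F), IsCyclic ↥H ∧ Nat.card ↥H = q ^ 2 + q + 1 ∧
      Subgroup.centralizer (H : Set ↥(chevG2.group F)) = H := by
  classical
  have : Module.Finite F K := Module.finite_of_finrank_pos (by omega)
  have : Finite F := Finite.of_injective _ (algebraMap F K).injective
  let _ : Fintype F := Fintype.ofFinite F
  let _ : Fintype K := Fintype.ofFinite K
  set n := q ^ 2 + q + 1 with hn
  have hcardK : Fintype.card Kˣ = (q - 1) * n := by
    rw [Fintype.card_units, Fintype.card_eq_nat_card, Module.natCard_eq_pow_finrank (K := F), hK, hF]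
    obtain ⟨k, rfl⟩ : ∃ k, q = k + 1 := ⟨q - 1, by omega⟩
    simp only [hn, Nat.add_sub_cancel]
    apply Nat.sub_eq_of_eq_add
    ring
  obtain ⟨u, hu⟩ := IsCyclic.exists_ofOrder_eq_natCard (α := Kˣ)
  rw [Nat.card_eq_fintype_card, hcardK] at hu
  set z := u ^ (q - 1) with hz
  have hzn : orderOf z = n := by
    rw [hz, orderOf_pow' _ (by omega), hu, Nat.gcd_eq_right (dvd_mul_right _ _),
      Nat.mul_div_cancel_left _ (by omega)]
  have hzprim : IsPrimitiveRoot z n := hzn ▸ IsPrimitiveRoot.orderOf z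
  set ζ : K := (z : K) with hζ
  set b : Basis (Fin 3) F K := Module.finBasisOfFinrankEq F K hK
  let σ : Fin 3 → (K →ₐ[F] K) := fun j => ((FiniteField.frobeniusAlgEquivOfAlgebraic F K) ^ j.val).toAlgHom
  have hσ : ∀ j x, σ j x = x ^ q ^ j.val := fun j x => by
    show ((FiniteField.frobeniusAlgEquivOfAlgebraic F K) ^ j.val) x = _
    rw [AlgEquiv.coe_pow, FiniteField.coe_frobeniusAlgEquivOfAlgebraic_iterate, Fintype.card_eq_nat_card, hF]
  -- the exponents
  have hzinj : ∀ a a' : ℤ, z ^ a = z ^ a' → (n : ℤ) ∣ a - a' := fun a a' e => by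
    rw [← hzn, orderOf_dvd_iff_zpow_eq_one, zpow_sub, e, mul_inv_cancel]
  obtain ⟨hexp1, hexp2⟩ := singerExp_not_dvd q hq
  -- `Q M = D Q`
  set Q : Matrix (Fin 3) (Fin 3) K := Matrix.of fun j i => σ j (b i) with hQ
  have hQcoord : ∀ (y : K) (j : Fin 3), ∑ i, Q j i * algebraMap F K (b.repr y i) = σ j y := by
    intro y j
    conv_rhs => rw [← b.sum_repr y, map_sum]
    refine Finset.sum_congr rfl fun i _ => ?_
    rw [map_smul, Algebra.smul_def, mul_comm]; rfl
  have hconj : ∀ a : K, Q * (Algebra.leftMulMatrix b a).map (algebraMap F K) =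
      Matrix.diagonal (fun j => σ j a) * Q := by
    intro a
    ext j k
    rw [Matrix.mul_apply, Matrix.diagonal_mul]
    show _ = σ j a * σ j (b k)
    rw [← map_mul, ← hQcoord (a * b k) j]
    simp [Algebra.leftMulMatrix_eq_repr_mul]
  set v : Fin 3 → K := fun j => σ j ζ with hv
  have hvz : ∀ j : Fin 3, v j = ((z ^ ((q ^ j.val : ℕ) : ℤ) : Kˣ) : K) := fun j => by
    rw [hv]; simp only [hσ, zpow_natCast, Units.val_pow_eq_pow_val, hζ]
  have hvinj : Function.Injective v := by
    intro j j' e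
    rw [hvz, hvz, zpow_natCast, zpow_natCast] at e
    have hlt : ∀ a : Fin 3, q ^ a.val < n := fun a => by
      have := Nat.pow_le_pow_right (show 0 < q by omega) (show a.val ≤ 2 by omega)
      omega
    exact Fin.ext (Nat.pow_right_injective (by omega : 2 ≤ q) (hzprim.pow_inj (hlt j) (hlt j') (Units.ext e)))
  have hQC : Q * Matrix.of (fun i (k : Fin 3) => algebraMap F K (b.repr (ζ ^ k.val) i)) =
      Matrix.vandermonde v := by
    ext j k
    rw [Matrix.mul_apply, Matrix.vandermonde_apply]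
    show ∑ i, Q j i * algebraMap F K (b.repr (ζ ^ k.val) i) = _
    rw [hQcoord, map_pow]
  have hQdet : Q.det ≠ 0 := fun h0 => by
    have := congrArg Matrix.det hQC
    rw [Matrix.det_mul, h0, zero_mul] at this
    exact Matrix.det_vandermonde_ne_zero_iff.2 hvinj this.symm
  have hdetM : ∀ a : K, algebraMap F K (Algebra.leftMulMatrix b a).det = a ^ n := by
    intro a
    have := congrArg Matrix.det (hconj a)
    rw [Matrix.det_mul, Matrix.det_mul, Matrix.det_diagonal, mul_comm (∏ _, _)] at this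
    rw [(algebraMap F K).map_det, RingHom.mapMatrix_apply, mul_left_cancel₀ hQdet this,
      Fin.prod_univ_three, hσ, hσ, hσ, ← pow_add, ← pow_add]
    congr 1
    simp [hn]; ring
  have hζn : ζ ^ n = 1 := by rw [hζ, ← Units.val_pow_eq_pow_val, hzprim.pow_eq_one, Units.val_one]
  have hMdet : (Algebra.leftMulMatrix b ζ).det = 1 := (algebraMap F K).injective (by rw [hdetM, hζn, map_one])
  set M : Matrix.SpecialLinearGroup (Fin 3) F := ⟨Algebra.leftMulMatrix b ζ, hMdet⟩ with hM
  have hMc : (M : Matrix (Fin 3) (Fin 3) F) = Algebra.leftMulMatrix b ζ := rfl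
  have hMorder : orderOf M = n := by
    refine (orderOf_eq_iff (by omega)).2 ⟨?_, fun m hm hm0 e => ?_⟩
    · refine Subtype.ext ?_
      rw [Matrix.SpecialLinearGroup.coe_pow, hMc, ← map_pow, hζn, map_one, Matrix.SpecialLinearGroup.coe_one]
    · have e' := congrArg (fun A : Matrix.SpecialLinearGroup (Fin 3) F => (A : Matrix (Fin 3) (Fin 3) F)) e
      rw [Matrix.SpecialLinearGroup.coe_pow, hMc, ← map_pow, Matrix.SpecialLinearGroup.coe_one,
        ← map_one (Algebra.leftMulMatrix b)] at e'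
      exact hzprim.pow_ne_one_of_pos_of_lt (by omega) hm
        (Units.ext (by simpa [hζ] using Algebra.leftMulMatrix_injective b e'))
  -- the embedded subgroup
  let embG : Matrix.SpecialLinearGroup (Fin 3) F →* ↥(chevG2.group F) := (emb F).codRestrict _ emb_mem
  have hembG : Function.Injective embG := fun A B e => emb_injective (congrArg Subtype.val e)
  refine ⟨Subgroup.zpowers (embG M), inferInstance, ?_, le_antisymm ?_ ?_⟩
  · rw [Nat.card_zpowers, orderOf_injective embG hembG, hMorder]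
  swap
  · intro x hx
    rw [Subgroup.mem_centralizer_iff]
    intro y hy
    obtain ⟨a, rfl⟩ := Subgroup.mem_zpowers_iff.1 hx
    obtain ⟨c, rfl⟩ := Subgroup.mem_zpowers_iff.1 hy
    exact (Commute.refl (embG M)).zpow_zpow c a
  intro x hx
  have hxM : Commute (embG M) x := Subgroup.mem_centralizer_iff.1 hx _ (Subgroup.mem_zpowers _)
  let f : F →+* K := algebraMap F K
  -- the diagonalizing element of `SL₃(K)`
  let Q' : Matrix.SpecialLinearGroup (Fin 3) K :=
    ⟨Matrix.diagonal ![Q.det⁻¹, 1, 1] * Q, by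
      rw [Matrix.det_mul, Matrix.det_diagonal, Fin.prod_univ_three]
      show Q.det⁻¹ * 1 * 1 * Q.det = 1
      rw [mul_one, mul_one, inv_mul_cancel₀ hQdet]⟩
  obtain ⟨d₀, hd₀⟩ : ∃ d : Kˣ, d = z := ⟨z, rfl⟩
  obtain ⟨d₁, hd₁⟩ : ∃ d : Kˣ, d = z ^ q := ⟨z ^ q, rfl⟩
  have hdv : v = ![(d₀ : K), d₁, ((d₀ * d₁)⁻¹ : Kˣ)] := by
    funext j
    rw [hvz]
    fin_cases j
    · show ((z ^ ((q ^ 0 : ℕ) : ℤ) : Kˣ) : K) = (d₀ : K)
      rw [pow_zero, Nat.cast_one, zpow_one, hd₀]
    · show ((z ^ ((q ^ 1 : ℕ) : ℤ) : Kˣ) : K) = (d₁ : K)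
      rw [pow_one, zpow_natCast, hd₁]
    · show ((z ^ ((q ^ 2 : ℕ) : ℤ) : Kˣ) : K) = (((d₀ * d₁)⁻¹ : Kˣ) : K)
      congr 1
      refine eq_inv_of_mul_eq_one_left ?_
      rw [hd₀, hd₁, zpow_natCast, ← pow_succ', ← pow_add]
      convert hzprim.pow_eq_one using 2
      omega
  let Dz : Matrix.SpecialLinearGroup (Fin 3) K :=
    ⟨Matrix.diagonal v, by
      rw [hdv, Matrix.det_diagonal, Fin.prod_univ_three]
      show (d₀ : K) * (d₁ : K) * (((d₀ * d₁)⁻¹ : Kˣ) : K) = 1
      rw [← Units.val_mul, ← Units.val_mul, mul_inv_cancel, Units.val_one]⟩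
  have hQ'c : (Q' : Matrix (Fin 3) (Fin 3) K) = Matrix.diagonal ![Q.det⁻¹, 1, 1] * Q := rfl
  have hDzc : (Dz : Matrix (Fin 3) (Fin 3) K) = Matrix.diagonal v := rfl
  have hQM : Q' * Matrix.SpecialLinearGroup.map f M = Dz * Q' := by
    refine Subtype.ext ?_
    rw [Matrix.SpecialLinearGroup.coe_mul, Matrix.SpecialLinearGroup.coe_mul, hQ'c, hDzc,
      Matrix.SpecialLinearGroup.map_apply_coe, RingHom.mapMatrix_apply, hMc]
    rw [mul_assoc, hconj, ← mul_assoc, ← mul_assoc, Matrix.diagonal_mul_diagonal,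
      Matrix.diagonal_mul_diagonal]
    congr 1
    congr 1
    funext i
    exact mul_comm _ _
  set X := ChevField.glMap chevG2 f (x : GL chevG2.Idx F) with hX
  have hXmem : X ∈ chevG2.group K :=
    ChevField.glMap_group_le f (Subgroup.mem_map_of_mem _ x.2)
  set s := torusHom chevG2 K (torusParam d₀ d₁) with hs
  have hDz : emb K Dz = s := emb_diag d₀ d₁ Dz (by rw [← hdv])
  set E := emb K Q' with hE
  set Y := E * X * E⁻¹ with hY
  have hYc : Commute s Y := by
    have h1 : Commute (emb K (Matrix.SpecialLinearGroup.map f M)) X := by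
      rw [← glMap_emb]
      exact (hxM.map ((chevG2.group F).subtype)).map (ChevField.glMap chevG2 f)
    have h2 : s = E * emb K (Matrix.SpecialLinearGroup.map f M) * E⁻¹ := by
      rw [hE, ← map_mul, hQM, map_mul, mul_inv_cancel_right, hDz]
    rw [h2, hY]
    exact h1.conj _
  have htf : ∀ r < chevG2.nroots, torusFun chevG2 (torusParam d₀ d₁) r = z ^ singerExp q r := by
    intro r hr
    rw [torusFun_param d₀ d₁ ⟨r, hr⟩, hd₀, hd₁, ← zpow_natCast z q, ← zpow_mul, ← zpow_add]
    rfl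
  obtain ⟨c, hc⟩ : Y ∈ (torusHom chevG2 K).range := by
    rw [← rooted_G2.diagonalSubgroup_eq]
    refine ChevRegular.mem_diagonal_of_commute rooted_G2 (torusParam d₀ d₁) ?_ ?_ ?_ hYc
    · intro r hr e
      refine hexp1 ⟨r, hr⟩ ?_
      have := hzinj (singerExp q r) 0 (by rw [← htf r hr, e, zpow_zero])
      rwa [sub_zero] at this
    · intro r hr r' hr' e
      rw [htf r hr, htf r' hr'] at e
      exact congrArg Fin.val (hexp2 ⟨r, hr⟩ ⟨r', hr'⟩ (hzinj _ _ e))
    · exact mul_mem (mul_mem (emb_mem Q') hXmem) (inv_mem (emb_mem Q'))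
  rw [torusHom_eq_param] at hc
  set e₀ := (c 0)⁻¹ * c 1
  set e₁ := (c 0) ^ 2 * (c 1)⁻¹
  let De : Matrix.SpecialLinearGroup (Fin 3) K :=
    ⟨Matrix.diagonal ![(e₀ : K), e₁, ((e₀ * e₁)⁻¹ : Kˣ)], by
      rw [Matrix.det_diagonal, Fin.prod_univ_three]
      show (e₀ : K) * (e₁ : K) * (((e₀ * e₁)⁻¹ : Kˣ) : K) = 1
      rw [← Units.val_mul, ← Units.val_mul, mul_inv_cancel, Units.val_one]⟩
  rw [← emb_diag e₀ e₁ De rfl] at hc
  set A' := Q'⁻¹ * De * Q' with hA'
  have hXA : X = emb K A' := by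
    rw [hA', map_mul, map_mul, map_inv, hc, hY, hE]; group
  -- rationality
  let A₀ : Matrix (Fin 3) (Fin 3) F := Matrix.of fun i j =>
    ((x : GL chevG2.Idx F) : Matrix chevG2.Idx chevG2.Idx F) (vIdx i) (vIdx j)
  have hA₀ : A₀.map f = (A' : Matrix (Fin 3) (Fin 3) K) := by
    ext i j
    rw [← emb_vblock A', ← hXA]
    rfl
  let A : Matrix.SpecialLinearGroup (Fin 3) F := ⟨A₀, f.injective (by
    rw [f.map_det, RingHom.mapMatrix_apply, hA₀, A'.2, map_one])⟩
  have hxA : x = embG A := by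
    refine Subtype.ext (ChevField.glMap_injective f ?_)
    show X = ChevField.glMap chevG2 f (emb F A)
    rw [glMap_emb, hXA]
    congr 1
    exact Subtype.ext hA₀.symm
  have hAM : A * M = M * A := hembG (by rw [map_mul, map_mul, ← hxA]; exact hxM.eq.symm)
  -- an endomorphism commuting with `ζ` is a multiplication
  set T := Matrix.toLin b b A₀ with hT
  have hTζ : ∀ y, T (ζ * y) = ζ * T y := fun y => by
    have hLM : Matrix.toLin b b (Algebra.leftMulMatrix b ζ) = LinearMap.mulLeft F ζ := by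
      rw [Algebra.leftMulMatrix_apply, Matrix.toLin_toMatrix]; rfl
    have e := congrArg (fun B : Matrix.SpecialLinearGroup (Fin 3) F => Matrix.toLin b b (B : Matrix (Fin 3) (Fin 3) F)) hAM
    have hAc : (A : Matrix (Fin 3) (Fin 3) F) = A₀ := rfl
    simp only [Matrix.SpecialLinearGroup.coe_mul] at e
    rw [hMc, hAc, Matrix.toLin_mul b b b, Matrix.toLin_mul b b b, hLM] at e
    exact LinearMap.congr_fun e y
  set a := T 1 with ha
  have hTa : T = LinearMap.mulLeft F a := by
    have hpow : ∀ k : ℕ, T (ζ ^ k) = ζ ^ k * a := by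
      intro k
      induction k with
      | zero => simp [ha]
      | succ k ih => rw [pow_succ', hTζ, ih, mul_assoc]
    have hind : LinearIndependent F (fun k : Fin 3 => ζ ^ k.val) := by
      rw [Fintype.linearIndependent_iff]
      intro w hw k
      have hall : ∀ j, ∑ k : Fin 3, v j ^ k.val * algebraMap F K (w k) = 0 := fun j => by
        have := congrArg (σ j) hw
        simp only [map_sum, map_smul, map_zero, map_pow] at this
        rw [← this]
        exact Finset.sum_congr rfl fun k _ => by rw [Algebra.smul_def, mul_comm, hv]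
      have := Matrix.eq_zero_of_mulVec_eq_zero (Matrix.det_vandermonde_ne_zero_iff.2 hvinj)
        (v := fun k => algebraMap F K (w k)) (funext fun j => by
          simpa [Matrix.mulVec, dotProduct, Matrix.vandermonde_apply] using hall j)
      exact f.injective ((congrFun this k).trans f.map_zero.symm)
    refine LinearMap.ext_on (hind.span_eq_top_of_card_eq_finrank (by simp [hK])) ?_
    rintro _ ⟨k, rfl⟩
    rw [LinearMap.mulLeft_apply, hpow, mul_comm]
  have hA₀a : A₀ = Algebra.leftMulMatrix b a := by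
    have : LinearMap.toMatrix b b T = A₀ := LinearMap.toMatrix_toLin b b A₀
    rw [← this, hTa, Algebra.leftMulMatrix_apply]; rfl
  have han : a ^ n = 1 := by rw [← hdetM, ← hA₀a, A.2, map_one]
  have ha0 : a ≠ 0 := fun h => by rw [h, zero_pow (by omega)] at han; exact zero_ne_one han
  obtain ⟨i, -, hi⟩ := (hzprim.map_of_injective (f := Units.coeHom K) Units.val_injective).eq_pow_of_pow_eq_one han
  refine Subgroup.mem_zpowers_iff.2 ⟨(i : ℤ), ?_⟩
  rw [hxA, zpow_natCast, ← map_pow]
  congr 1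
  refine Subtype.ext ?_
  rw [Matrix.SpecialLinearGroup.coe_pow, hM]
  show Algebra.leftMulMatrix b ζ ^ i = A₀
  rw [hA₀a, ← map_pow]
  congr 1

end Cfsg.Agent.Lib.G2SL3
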