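import Cfsg.Agent.Lib.G2SL3.Embedding
import Cfsg.Agent.Lib.Chev.Perfect
import Cfsg.Agent.Lib.ChevField.Fixed

/-!
Naturality of the embedding of `SL₃` into G2 and its values on diagonal matrices.
-/

set_option autoImplicit false

namespace Cfsg.Agent.Lib.G2SL3

open Cfsg.Lie Cfsg.Agent.Lib.Chev
open scoped Matrix

variable {R : Type*} [CommRing R] {S : Type*} [CommRing S]

theorem adj8_map (f : R →+* S) (A B : Matrix (Fin 3) (Fin 3) R) :
    (adj8 A B).map f = adj8 (A.map f) (B.map f) := by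
  ext r c
  simp only [Matrix.map_apply, adj8, Matrix.of_apply, ← slCoord_map, Matrix.map_mul, slBasis_map]

variable {K : Type*} [Field K] {F : Type*} [Field F]

theorem glMap_emb (f : K →+* F) (A : Matrix.SpecialLinearGroup (Fin 3) K) :
    ChevField.glMap chevG2 f (emb K A) = emb F (Matrix.SpecialLinearGroup.map f A) := by
  refine Units.ext ?_
  rw [ChevField.coe_glMap, coe_emb, coe_emb, ← map_inv]
  simp only [blockMat, Matrix.SpecialLinearGroup.map_apply_coe, RingHom.mapMatrix_apply,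
    ← adj8_map f, ← Matrix.submatrix_map, Matrix.fromBlocks_map, Matrix.map_zero f f.map_zero,
    Matrix.transpose_map]

theorem adj8_diagonal (a b : Fin 3 → F) (h : ∀ i, a i * b i = 1) :
    adj8 (Matrix.diagonal a) (Matrix.diagonal b) = Matrix.diagonal
      ![1, 1, a 2 * b 0, a 2 * b 1, a 1 * b 0, a 0 * b 1, a 1 * b 2, a 0 * b 2] := by
  have h0 := h 0; have h1 := h 1; have h2 := h 2
  have e : ∀ c, Matrix.diagonal a * slBasis (R := F) c * Matrix.diagonal b =
      Matrix.of fun i j => a i * slBasis c i j * b j := fun c => by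
    ext i j
    simp [Matrix.mul_diagonal, Matrix.diagonal_mul]
  ext r c
  simp only [adj8, Matrix.of_apply, e]
  fin_cases r <;> fin_cases c <;> simp [slCoord, slBasis, h0, h1, h2]

/-- The torus parameters belonging to `diag (d₀, d₁, d₂)`. -/
def torusParam (d₀ d₁ : Fˣ) : ℕ → Fˣ := fun i => if i = 0 then d₀ * d₁ else d₀ ^ 2 * d₁

/-- The exponents of `d₀, d₁` in the twelve root values. -/
def rootExp (r : ℕ) : ℤ × ℤ :=
  [((-2 : ℤ), (-1 : ℤ)), (-1, -2), (-1, -1), (-1, 0), (0, -1), (-1, 1), (1, -1), (0, 1), (1, 0),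
    (1, 1), (1, 2), (2, 1)].getD r (0, 0)

theorem torusFun_param (d₀ d₁ : Fˣ) (r : Fin chevG2.nroots) :
    torusFun chevG2 (torusParam d₀ d₁) r.val = d₀ ^ (rootExp r.val).1 * d₁ ^ (rootExp r.val).2 := by
  have e : ∀ a b : ℤ, (d₀ * d₁) ^ a * (d₀ ^ 2 * d₁) ^ b = d₀ ^ (a + 2 * b) * d₁ ^ (a + b) := fun a b => by
    rw [mul_zpow, mul_zpow, ← zpow_natCast, ← zpow_mul, zpow_add, zpow_add]
    exact mul_mul_mul_comm _ _ _ _
  have h : ∀ r : Fin chevG2.nroots,
      chevG2.cartan 0 r.val + 2 * chevG2.cartan 1 r.val = (rootExp r.val).1 ∧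
      chevG2.cartan 0 r.val + chevG2.cartan 1 r.val = (rootExp r.val).2 := by decide +kernel
  rw [← (h r).1, ← (h r).2, ← e, torusFun, show chevG2.rank = 2 from rfl, Finset.prod_range_succ,
    Finset.prod_range_one]
  rfl

/-- Every diagonal element comes from a diagonal matrix of `SL₃`. -/
theorem torusHom_eq_param (c : ℕ → Fˣ) :
    torusHom chevG2 F c = torusHom chevG2 F (torusParam ((c 0)⁻¹ * c 1) ((c 0) ^ 2 * (c 1)⁻¹)) := by
  refine ChevField.torusHom_congr fun i hi => ?_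
  change i < 2 at hi
  interval_cases i <;> apply Units.ext <;> simp [torusParam, Units.val_inv_eq_inv_val] <;> field_simp

theorem emb_diag (d₀ d₁ : Fˣ) (A : Matrix.SpecialLinearGroup (Fin 3) F)
    (hA : (A : Matrix (Fin 3) (Fin 3) F) = Matrix.diagonal ![(d₀ : F), d₁, ((d₀ * d₁)⁻¹ : Fˣ)]) :
    emb F A = torusHom chevG2 F (torusParam d₀ d₁) := by
  have hB : ((A⁻¹ : Matrix.SpecialLinearGroup (Fin 3) F) : Matrix (Fin 3) (Fin 3) F) =
      Matrix.diagonal ![((d₀⁻¹ : Fˣ) : F), ((d₁⁻¹ : Fˣ) : F), ((d₀ * d₁ : Fˣ) : F)] := by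
    have e : (A : Matrix (Fin 3) (Fin 3) F) *
        Matrix.diagonal ![((d₀⁻¹ : Fˣ) : F), ((d₁⁻¹ : Fˣ) : F), ((d₀ * d₁ : Fˣ) : F)] = 1 := by
      rw [hA, Matrix.diagonal_mul_diagonal, ← Matrix.diagonal_one]
      congr 1
      funext i
      fin_cases i <;> simp [← Units.val_mul] <;> field_simp
    have h' := congrArg (fun M => ((A⁻¹ : Matrix.SpecialLinearGroup (Fin 3) F) : Matrix (Fin 3) (Fin 3) F) * M) e
    rw [← mul_assoc, ← Matrix.SpecialLinearGroup.coe_mul, inv_mul_cancel,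
      Matrix.SpecialLinearGroup.coe_one, one_mul, mul_one] at h'
    exact h'.symm
  refine Units.ext ?_
  rw [coe_emb, hA, hB, blockMat, adj8_diagonal _ _ (fun i => by
      fin_cases i <;> simp [← Units.val_mul] <;> field_simp), Matrix.diagonal_transpose, Matrix.fromBlocks_diagonal,
    Matrix.fromBlocks_diagonal, Matrix.submatrix_diagonal_equiv, coe_torusHom, ChevalleyDatum.charDiag]
  congr 1
  funext x
  rcases x with i | r
  · fin_cases i <;> simp [idxEquiv_apply, idxFun]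
  · simp only [Sum.elim_inr, torusFun_param]
    fin_cases r <;>
      simp [idxEquiv_apply, idxFun, rootExp, Units.val_inv_eq_inv_val, zpow_ofNat] <;> field_simp

end Cfsg.Agent.Lib.G2SL3
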